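import Cfsg.Agent.H273.EPU.PType
import Cfsg.Agent.H957.EP.RankTwo
import Cfsg.Agent.H35.EP.CommModel
import Cfsg.Agent.H59.EP.CountG

/-!
# S3499, own characteristic, degree three: `|LocK L| ≤ 2 |L| ^ 2` (helper396)

`L` a group with a model `S ≤ GL₃(K)`, `char K = p`, of Lie type in characteristic `p` (`HasFilt p L`).
-/

set_option autoImplicit false

namespace Cfsg.Agent.H396.EP

open Subgroup Cfsg.Agent.H59.EP Cfsg.Agent.H273.EPU Cfsg.Agent.H419.EP
open scoped commutatorElement MatrixGroups

/-- a nonabelian simple group is perfect -/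
theorem perfect_of_simple {T : Type*} [Group T] (hT : IsSimpleGroup T) (hc : ¬ ∀ a b : T, a * b = b * a) (a : T) :
    a ∈ (⁅(⊤ : Subgroup T), ⊤⁆ : Subgroup T) := by
  have hn : (⁅(⊤ : Subgroup T), ⊤⁆ : Subgroup T).Normal := inferInstance
  rcases hT.eq_bot_or_eq_top_of_normal _ hn with h | h
  · exfalso
    apply hc
    intro a b
    have h1 : ⁅a, b⁆ ∈ (⁅(⊤ : Subgroup T), ⊤⁆ : Subgroup T) := commutator_mem_commutator (mem_top _) (mem_top _)
    rw [h, mem_bot, commutatorElement_eq_one_iff_mul_comm] at h1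
    exact h1
  · rw [h]
    exact mem_top _

/-- characteristically simple groups which embed in a group with a model of degree three are elementary abelian or
generated by two elements -/
theorem two_gen_of_charSimple (hg : ∀ (X : Type) [Group X] [Finite X] [IsSimpleGroup X], ∃ x y : X,
      closure ({x, y} : Set X) = ⊤) {L : Type*} [Group L] {K : Type*} [Field K] [Finite K]
    {S : Subgroup (GL (Fin 3) K)} (m : Model L S) {X : Subgroup L} [Finite X] (hX : X ≠ ⊥)
    (hc : ∀ Y : Subgroup X, Y.Characteristic → Y = ⊥ ∨ Y = ⊤) :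
    (∃ s : ℕ, s.Prime ∧ s ∣ Nat.card X ∧ ElAb s X) ∨ ∃ a b : L, X = closure {a, b} := by
  have hXn : Nontrivial X := (Subgroup.nontrivial_iff_ne_bot X).2 hX
  by_cases hcomm : ∀ a b : X, a * b = b * a
  · left
    obtain ⟨s, hs, hsd, hE⟩ := elab_of_comm hc hcomm
    exact ⟨s, hs, hsd, fun a ha b hb => congrArg Subtype.val (hcomm ⟨a, ha⟩ ⟨b, hb⟩),
      fun a ha => congrArg Subtype.val (hE.exp ⟨a, ha⟩ (mem_top _))⟩
  right
  obtain ⟨T, hT1, hT2, n, hn, ⟨e⟩⟩ := Cfsg.Agent.S5914.result.1 hc
  have h0 : 0 < n := by omega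
  have hTf : Finite T := Finite.of_injective (fun t : T => e.symm (Pi.mulSingle ⟨0, h0⟩ t)) fun t s h =>
    Pi.mulSingle_injective _ (e.symm.injective h)
  have hTc : ¬ ∀ a b : T, a * b = b * a := by
    intro h
    apply hcomm
    intro a b
    apply e.injective
    rw [map_mul, map_mul]
    ext i
    exact h _ _
  rcases Nat.lt_or_ge n 2 with h2 | h2
  · obtain rfl : n = 1 := by omega
    let E : T ≃* X := (MulEquiv.piUnique (fun _ : Fin 1 => T)).symm.trans e.symm
    obtain ⟨a, b, hab⟩ := hg T
    refine ⟨(E a : X), (E b : X), ?_⟩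
    have h1 : (closure ({a, b} : Set T)).map (X.subtype.comp E.toMonoidHom) = X := by
      rw [hab, ← MonoidHom.range_eq_map, MonoidHom.range_comp, MonoidHom.range_eq_top.2 E.surjective,
        ← MonoidHom.range_eq_map, X.range_subtype]
    rw [MonoidHom.map_closure, Set.image_pair] at h1
    exact h1.symm
  · exfalso
    exact Cfsg.Agent.H35.EP.no_pi_model m (perfect_of_simple hT2 hTc) hT2.toNontrivial
      (i := (⟨0, by omega⟩ : Fin n)) (j := ⟨1, by omega⟩) (by simp) (X.subtype.comp e.symm.toMonoidHom)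
      (X.subtype_injective.comp e.symm.injective)

/-- the members of `LocK L` with `O_p = 1` -/
theorem ncard_core_one_le (hg : ∀ (X : Type) [Group X] [Finite X] [IsSimpleGroup X], ∃ x y : X,
      closure ({x, y} : Set X) = ⊤) {L : Type*} [Group L] [Finite L] {K : Type*} [Field K] [Finite K] {p : ℕ}
    [Fact p.Prime] [CharP K p] {S : Subgroup (GL (Fin 3) K)} (m : Model L S) :
    {M ∈ LocK L | pCore p M = ⊥}.ncard ≤ Nat.card L ^ 2 := by
  have h1 : {M ∈ LocK L | pCore p M = ⊥} ⊆ Set.range fun z : L × L =>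
      (normalizer ((closure {z.1, z.2} : Subgroup L) : Set L)) := by
    rintro M ⟨hM, hMp⟩
    obtain ⟨X, hXM, hXle, hX, hXc⟩ := exists_key hM.1 (fun Y hY hY0 b hb => hM.2 Y hY hY0
      (Subgroup.mem_normalizer_fintype hb))
    have key : ∃ a b : L, X = closure {a, b} := by
      rcases two_gen_of_charSimple hg m hX hXc with ⟨s, hs, hsd, hE⟩ | h
      · have hsp : s ≠ p := by
          rintro rfl
          -- `X` is a normal `p`-subgroup of `M`
          apply hX
          have hn : (X.subgroupOf M).Normal := by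
            constructor
            intro y hy k
            rw [mem_subgroupOf] at hy ⊢
            have hk : (k : L) ∈ normalizer (X : Set L) := by rw [hXM]; exact k.2
            exact (mem_normalizer_iff.1 hk _).1 hy
          have hpg : IsPGroup s (X.subgroupOf M) := by
            intro y
            refine ⟨1, Subtype.ext (Subtype.ext ?_)⟩
            rw [pow_one]
            exact hE.exp _ y.2
          have h3 : X.subgroupOf M ≤ pCore s M := by
            rw [Cfsg.Agent.Lib.Cores.pCore_def]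
            exact le_sSup ⟨hn, hpg⟩
          rw [hMp, le_bot_iff, Subgroup.subgroupOf_eq_bot, disjoint_iff, inf_eq_left.2 hXle] at h3
          exact h3
        have hs0 : (s : K) ≠ 0 := by
          rw [Ne, CharP.cast_eq_zero_iff K p]
          intro h
          exact hsp ((Nat.prime_dvd_prime_iff_eq (Fact.out) hs).1 h).symm
        obtain ⟨a, -, b, -, e⟩ := Cfsg.Agent.H957.EP.two_gen_three m (by simp) hs hs0 hE
        exact ⟨a, b, e⟩
      · exact h
    obtain ⟨a, b, e⟩ := key
    exact ⟨(a, b), by rw [← hXM, e]⟩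
  refine (Set.ncard_le_ncard h1 (Set.toFinite _)).trans ?_
  rw [← Set.image_univ]
  refine (Set.ncard_image_le (Set.toFinite _)).trans ?_
  rw [Set.ncard_univ, Nat.card_prod, pow_two]

/-- **`|LocK L| ≤ 2 |L| ^ 2`** in degree three -/
theorem ncard_locK_three (hg : ∀ (X : Type) [Group X] [Finite X] [IsSimpleGroup X], ∃ x y : X,
      closure ({x, y} : Set X) = ⊤) {L : Type*} [Group L] [Finite L] {K : Type*} [Field K] [Finite K] {p : ℕ}
    [Fact p.Prime] [CharP K p] {S : Subgroup (GL (Fin 3) K)} (m : Model L S) (hL : KFacts.RgdFilt.HasFilt p L) :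
    (LocK L).ncard ≤ 2 * Nat.card L ^ 2 := by
  have h1 : LocK L = {M ∈ LocK L | pCore p M ≠ ⊥} ∪ {M ∈ LocK L | pCore p M = ⊥} := by
    ext M
    constructor
    · intro h
      by_cases h2 : pCore p M = ⊥
      · exact Or.inr ⟨h, h2⟩
      · exact Or.inl ⟨h, h2⟩
    · rintro (h | h) <;> exact h.1
  rw [h1]
  refine (Set.ncard_union_le _ _).trans ?_
  rw [two_mul]
  exact Nat.add_le_add (ncard_p_le hL) (ncard_core_one_le hg m)

end Cfsg.Agent.H396.EP
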