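import Cfsg.Agent.H957.EP.RowSix
import Cfsg.Agent.H835.EP.RowSU6
import Cfsg.Agent.H173.EP.LineBound
import Cfsg.Agent.H59.EP.UB
import Cfsg.Agent.S0249
import Cfsg.Agent.S0283

/-!
# S3499, own characteristic: `L₃(q) < L₆(q)` and `U₃(q) < U₆(q)`, `q` odd (helper396, task 6152)

The numbers: a contradiction from `r ≤ 2 |L| ^ 2`, `r` the number of two-point stabilisers.
-/

set_option autoImplicit false

namespace Cfsg.Agent.H396.EP

open Subgroup Cfsg.Agent.H284 Cfsg.Agent.H419.EP Cfsg.Agent.H59.EP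
open scoped MatrixGroups

/-- the numbers -/
theorem num {q f a l g3 g6 P K n : ℕ} (hq : 3 ≤ q) (hf : f ^ 2 ≤ q) (ha : a ≤ 2 * f * P)
    (hl : g3 * l = P) (h36 : g6 ≤ 2 * g3) (h6 : g6 ≤ 6) (hP : P ≤ q ^ 8) (hP0 : 0 < P) (hg3 : 0 < g3)
    (hK : q ^ 12 * ((q ^ 4 - 1) * (q ^ 5 - 1) * (q ^ 6 - 1)) ≤ K) (hn : g6 * n = P * K)
    (hi : n ≤ a * (1 + 2 * l ^ 2 * (2 * (a / 6)))) : False := by
  have h1 : 3 * n ≤ 3 * a + 2 * l ^ 2 * a ^ 2 := by
    have h2 : 6 * (a / 6) ≤ a := Nat.mul_div_le a 6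
    calc 3 * n ≤ 3 * (a * (1 + 2 * l ^ 2 * (2 * (a / 6)))) := Nat.mul_le_mul_left _ hi
      _ = 3 * a + 2 * l ^ 2 * a * (6 * (a / 6)) := by ring
      _ ≤ 3 * a + 2 * l ^ 2 * a * a := Nat.add_le_add_left (Nat.mul_le_mul_left _ h2) _
      _ = _ := by ring
  have h2 : g6 * l ^ 2 ≤ 2 * P ^ 2 := by
    calc g6 * l ^ 2 ≤ (2 * g3) * l ^ 2 := Nat.mul_le_mul_right _ h36
      _ ≤ (2 * g3) * l ^ 2 * g3 := Nat.le_mul_of_pos_right _ hg3
      _ = 2 * (g3 * l) ^ 2 := by ring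
      _ = _ := by rw [hl]
  have h3 : 3 * K ≤ 36 * f + 16 * f ^ 2 * P ^ 3 := by
    have h4 : P * (3 * K) ≤ P * (36 * f + 16 * f ^ 2 * P ^ 3) := by
      calc P * (3 * K) = g6 * (3 * n) := by
            have : P * (3 * K) = 3 * (P * K) := by ring
            rw [this, ← hn]; ring
        _ ≤ g6 * (3 * a + 2 * l ^ 2 * a ^ 2) := Nat.mul_le_mul_left _ h1
        _ = 3 * (g6 * a) + 2 * (g6 * l ^ 2) * a ^ 2 := by ring
        _ ≤ 3 * (6 * (2 * f * P)) + 2 * (2 * P ^ 2) * (2 * f * P) ^ 2 := by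
            refine Nat.add_le_add (Nat.mul_le_mul_left _ (Nat.mul_le_mul h6 ha))
              (Nat.mul_le_mul (Nat.mul_le_mul_left _ h2) ?_)
            exact Nat.pow_le_pow_left ha 2
        _ = P * (36 * f + 16 * f ^ 2 * P ^ 3) := by ring
    exact Nat.le_of_mul_le_mul_left h4 hP0
  -- the lower bound
  have e4 : 80 * q ^ 4 ≤ 81 * (q ^ 4 - 1) := by
    have : 3 ^ 4 ≤ q ^ 4 := Nat.pow_le_pow_left hq 4
    norm_num at this
    omega
  have e5 : 242 * q ^ 5 ≤ 243 * (q ^ 5 - 1) := by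
    have : 3 ^ 5 ≤ q ^ 5 := Nat.pow_le_pow_left hq 5
    norm_num at this
    omega
  have e6 : 728 * q ^ 6 ≤ 729 * (q ^ 6 - 1) := by
    have : 3 ^ 6 ≤ q ^ 6 := Nat.pow_le_pow_left hq 6
    norm_num at this
    omega
  have h5 : (80 * 242 * 728) * q ^ 27 ≤ (81 * 243 * 729) * K := by
    calc (80 * 242 * 728) * q ^ 27 = q ^ 12 * ((80 * q ^ 4) * (242 * q ^ 5) * (728 * q ^ 6)) := by ring
      _ ≤ q ^ 12 * ((81 * (q ^ 4 - 1)) * (243 * (q ^ 5 - 1)) * (729 * (q ^ 6 - 1))) :=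
          Nat.mul_le_mul_left _ (Nat.mul_le_mul (Nat.mul_le_mul e4 e5) e6)
      _ = (81 * 243 * 729) * (q ^ 12 * ((q ^ 4 - 1) * (q ^ 5 - 1) * (q ^ 6 - 1))) := by ring
      _ ≤ _ := Nat.mul_le_mul_left _ hK
  have h6' : 9 * q ^ 25 ≤ q ^ 27 := by
    calc 9 * q ^ 25 = 3 ^ 2 * q ^ 25 := by norm_num
      _ ≤ q ^ 2 * q ^ 25 := Nat.mul_le_mul_right _ (Nat.pow_le_pow_left hq 2)
      _ = _ := by ring
  have h7 : 16 * f ^ 2 * P ^ 3 ≤ 16 * q ^ 25 := by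
    calc 16 * f ^ 2 * P ^ 3 ≤ 16 * q * (q ^ 8) ^ 3 :=
          Nat.mul_le_mul (Nat.mul_le_mul_left _ hf) (Nat.pow_le_pow_left hP 3)
      _ = _ := by ring
  have h8 : 36 * f ≤ q ^ 25 := by
    have h9 : f ≤ q := by nlinarith
    have h10 : 3 ^ 24 ≤ q ^ 24 := Nat.pow_le_pow_left hq 24
    have h11 : q ^ 25 = q ^ 24 * q := by ring
    rw [h11]
    norm_num at h10
    nlinarith
  have h12 : 0 < q ^ 25 := by positivity
  norm_num at h5
  omega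

/-- `f ^ 2 ≤ p ^ f`, `p ≥ 3` -/
theorem sq_le {p f : ℕ} (hp : 3 ≤ p) : f ^ 2 ≤ p ^ f := by
  refine le_trans ?_ (Nat.pow_le_pow_left hp f)
  induction f with
  | zero => norm_num
  | succ f ih =>
    have e : 3 ^ (f + 1) = 3 ^ f * 3 := pow_succ 3 f
    rw [e]
    rcases Nat.lt_or_ge f 2 with h | h
    · interval_cases f <;> norm_num
    · nlinarith

theorem exists_prime_pow {q : ℕ} (hq : IsPrimePow q) (hodd : Odd q) :
    ∃ p f : ℕ, p.Prime ∧ 1 ≤ f ∧ q = p ^ f ∧ f ^ 2 ≤ q ∧ 3 ≤ q := by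
  obtain ⟨p, f, hp, hf, rfl⟩ := (isPrimePow_nat_iff q).1 hq
  have hp3 : 3 ≤ p := by
    have h2 := hp.two_le
    rcases Nat.lt_or_ge 2 p with h | h
    · exact h
    · have : p = 2 := by omega
      rw [this] at hodd
      exact absurd hodd (Nat.not_odd_iff_even.2 ((Nat.even_pow.2 ⟨even_two, hf.ne'⟩)))
  refine ⟨p, f, hp, hf, rfl, sq_le hp3, ?_⟩
  calc 3 ≤ p := hp3
    _ = p ^ 1 := (pow_one p).symm
    _ ≤ p ^ f := Nat.pow_le_pow_right (by omega) hf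

theorem ncomm_of_not_prime {S : Type*} [Group S] [Finite S] (hS : IsSimpleGroup S) (h : ¬ (Nat.card S).Prime) :
    ¬ ∀ a b : S, a * b = b * a := by
  intro hc
  apply h
  let _ : CommGroup S := { (inferInstance : Group S) with mul_comm := hc }
  exact IsSimpleGroup.prime_card

/-- `index ≤ ...` from `r ≤ 2 |L| ^ 2` -/
theorem card_le_of_r {Q : Type} [Group Q] [Finite Q] (hs : IsSimpleGroup Q) {A : Subgroup Q} {Γ : Subgroup (MulAut Q)}
    (h : EPT A Γ) {L : Type*} [Group L] [Finite L] (hS : HasSoc A L) (hL : IsSimpleGroup L)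
    (hp : ¬ (Nat.card L).Prime)
    (hr : {M : Subgroup Q | ∃ x, x ∉ A ∧ M = A ⊓ cj x A}.ncard ≤ 2 * Nat.card L ^ 2) :
    Nat.card Q ≤ Nat.card A * (1 + 2 * Nat.card L ^ 2 * (2 * (Nat.card A / 6))) := by
  have hab : ∀ K : Subgroup Q, K ≤ A → (∀ a ∈ A, ∀ k ∈ K, a * k * a⁻¹ ∈ K) → (∀ a ∈ K, ∀ b ∈ K, a * b = b * a) →
      K = ⊥ := fun K hK hn hc => HasSoc.no_abelian hS hL (ncomm_of_not_prime hL hp) hK hn hc
  have h1 := Cfsg.Agent.H173.EP.ub1 hs h (by norm_num) (fun _ hx => EPT.six_le h hab hx)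
  rw [← A.card_mul_index]
  refine Nat.mul_le_mul_left _ (h1.trans (Nat.add_le_add_left ?_ _))
  exact Nat.mul_le_mul_right _ hr

theorem not_prime_of_dvd {n a : ℕ} (h : a ∣ n) (h1 : a ≠ 1) (h2 : a < n) : ¬ n.Prime := by
  intro hp
  rcases (Nat.dvd_prime hp).1 h with h3 | h3
  · exact h1 h3
  · omega

/-- `gcd 6 m ≤ 2 gcd 3 m` -/
theorem gcd_le (m : ℕ) : Nat.gcd 6 m ≤ 2 * Nat.gcd 3 m := by
  have h := Nat.Coprime.gcd_mul m (show Nat.Coprime 2 3 by norm_num)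
  rw [Nat.gcd_comm 6, show (6 : ℕ) = 2 * 3 by norm_num, h, Nat.gcd_comm m 3]
  exact Nat.mul_le_mul_right _ (Nat.gcd_le_right _ (by norm_num))

theorem coprime_of {q g : ℕ} (hq : 3 ≤ q) (hg : g ∣ q - 1 ∨ g ∣ q + 1) : Nat.Coprime q g := by
  rcases hg with hg | hg
  · refine Nat.Coprime.coprime_dvd_right hg ?_
    obtain ⟨t, rfl⟩ : ∃ t, q = t + 1 := ⟨q - 1, by omega⟩
    simp
  · refine Nat.Coprime.coprime_dvd_right hg ?_
    simp

theorem not_prime_of {q g l X : ℕ} (hq : 3 ≤ q) (hg : g ∣ q - 1 ∨ g ∣ q + 1) (hg3 : g ≤ 3) (hX : 0 < X)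
    (h : g * l = q ^ 3 * X) : ¬ l.Prime := by
  intro hl
  have h1 : q ∣ l := by
    refine (coprime_of hq hg).dvd_of_dvd_mul_left ?_
    rw [h]
    exact (dvd_pow_self q (by norm_num)).mul_right _
  rcases (Nat.dvd_prime hl).1 h1 with h2 | h2
  · omega
  · rw [← h2] at h
    have h3 : q * (q ^ 2 * X) ≤ q * 3 := by
      calc q * (q ^ 2 * X) = g * q := by rw [h]; ring
        _ ≤ 3 * q := Nat.mul_le_mul_right _ hg3
        _ = _ := by ring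
    have h4 := Nat.le_of_mul_le_mul_left h3 (by omega)
    have h5 : 9 ≤ q ^ 2 := by nlinarith
    nlinarith

/-- **`L₃(q) < L₆(q)`**, `q` odd. -/
theorem l3_six {Q : Type} [Group Q] [Finite Q] (hs : IsSimpleGroup Q) {A : Subgroup Q} {Γ : Subgroup (MulAut Q)}
    (h : EPT A Γ) {F : Type} [Field F] [Fintype F] (m : Model Q (Cfsg.Geo.specialLinear (Fin 6) F))
    (hodd : Odd (Fintype.card F)) (hS : HasSoc A (Matrix.ProjectiveSpecialLinearGroup (Fin 3) F))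
    (hr : {M : Subgroup Q | ∃ x, x ∉ A ∧ M = A ⊓ cj x A}.ncard ≤
      2 * Nat.card (Matrix.ProjectiveSpecialLinearGroup (Fin 3) F) ^ 2) : False := by
  obtain ⟨p, f, hp, hf, hq, hf2, hq3⟩ := exists_prime_pow (FiniteField.isPrimePow_card F) hodd
  have : Fact p.Prime := ⟨hp⟩
  set q := Fintype.card F with hqd
  -- |Aut L|
  have h1 := S0813.result (F := F) p f hf (hqd.symm.trans hq) 3 (by norm_num) (by norm_num)
  have h2 := S0265.result (F := F) 3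
  have h3 := S0242.result (F := F) hqd.symm 3 (by norm_num)
  have h4 := S0243.result (F := F) hqd.symm 3 (by norm_num)
  have h5 := S0243.result (F := F) hqd.symm 6 (by norm_num)
  rw [if_neg (by norm_num)] at h1
  rw [Fin.prod_univ_three] at h3 h4
  rw [Fin.prod_univ_six] at h5
  simp only [Fin.val_zero, Fin.val_one, Fin.val_two] at h3 h4 h5
  rw [show ((3 : Fin 6) : ℕ) = 3 from rfl, show ((4 : Fin 6) : ℕ) = 4 from rfl,
    show ((5 : Fin 6) : ℕ) = 5 from rfl] at h5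
  obtain ⟨m'⟩ := Cfsg.Agent.H117.EP.model_PSL (F := F) (n := 6) (by norm_num)
  rw [← H957.EP.model_card m m'] at h5
  have hLs : IsSimpleGroup (Matrix.ProjectiveSpecialLinearGroup (Fin 3) F) := S0249.result 3 (by norm_num)
  have hA := HasSoc.card_le hS
  rw [h1] at hA
  have key := fun hp => card_le_of_r hs h hS hLs hp hr
  clear h1 hr hS
  generalize Nat.card (Matrix.ProjectiveSpecialLinearGroup (Fin 3) F) = l at *
  generalize Nat.card (Matrix.SpecialLinearGroup (Fin 3) F) = P at *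
  generalize Nat.card (Matrix.ProjGenLinGroup (Fin 3) F) = P' at *
  generalize Nat.card Q = n at *
  generalize Nat.card A = a at *
  subst h2
  clear_value q
  have hq0 : 0 < q - 1 := by omega
  have e0 : q ^ 3 - q ^ 0 = q ^ 3 - 1 := by rw [pow_zero]
  have e1 : q ^ 3 - q ^ 1 = q * (q ^ 2 - 1) := by rw [Nat.mul_sub]; ring_nf
  have e2 : q ^ 3 - q ^ 2 = q ^ 2 * (q - 1) := by rw [Nat.mul_sub]; ring_nf
  have e3 : q ^ 6 - q ^ 0 = q ^ 6 - 1 := by rw [pow_zero]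
  have e4 : q ^ 6 - q ^ 1 = q * (q ^ 5 - 1) := by rw [Nat.mul_sub]; ring_nf
  have e5 : q ^ 6 - q ^ 2 = q ^ 2 * (q ^ 4 - 1) := by rw [Nat.mul_sub]; ring_nf
  have e6 : q ^ 6 - q ^ 3 = q ^ 3 * (q ^ 3 - 1) := by rw [Nat.mul_sub]; ring_nf
  have e7 : q ^ 6 - q ^ 4 = q ^ 4 * (q ^ 2 - 1) := by rw [Nat.mul_sub]; ring_nf
  have e8 : q ^ 6 - q ^ 5 = q ^ 5 * (q - 1) := by rw [Nat.mul_sub]; ring_nf
  rw [e0, e1, e2] at h3 h4
  rw [e3, e4, e5, e6, e7, e8] at h5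
  have hP : P' = q ^ 3 * ((q ^ 2 - 1) * (q ^ 3 - 1)) := by
    apply Nat.eq_of_mul_eq_mul_left hq0
    rw [h3]; ring
  have hl : Nat.gcd 3 (q - 1) * l = P' := by
    apply Nat.eq_of_mul_eq_mul_left hq0
    rw [h3, ← h4]; ring
  have hn : Nat.gcd 6 (q - 1) * n = P' * (q ^ 12 * ((q ^ 4 - 1) * (q ^ 5 - 1) * (q ^ 6 - 1))) := by
    apply Nat.eq_of_mul_eq_mul_left hq0
    calc (q - 1) * (Nat.gcd 6 (q - 1) * n) = Nat.gcd 6 (q - 1) * ((q - 1) * n) := by ring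
      _ = _ := by rw [h5, hP]; ring
  have hq2 : 0 < q ^ 2 - 1 := Nat.sub_pos_of_lt (Nat.one_lt_pow (by norm_num) (by omega))
  have hq3' : 0 < q ^ 3 - 1 := Nat.sub_pos_of_lt (Nat.one_lt_pow (by norm_num) (by omega))
  have hP8 : P' ≤ q ^ 8 := by
    rw [hP]
    calc q ^ 3 * ((q ^ 2 - 1) * (q ^ 3 - 1)) ≤ q ^ 3 * (q ^ 2 * q ^ 3) :=
          Nat.mul_le_mul_left _ (Nat.mul_le_mul (Nat.sub_le _ _) (Nat.sub_le _ _))
      _ = _ := by ring
  have hP0 : 0 < P' := by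
    rw [hP]
    exact Nat.mul_pos (by positivity) (Nat.mul_pos hq2 hq3')
  have hkey := key (not_prime_of hq3 (Or.inl (Nat.gcd_dvd_right 3 (q - 1))) (Nat.gcd_le_left _ (by norm_num))
    (Nat.mul_pos hq2 hq3') (hl.trans hP))
  exact num hq3 hf2 hA hl (gcd_le _) (Nat.gcd_le_left _ (by norm_num)) hP8 hP0
    (Nat.gcd_pos_of_pos_left _ (by norm_num)) le_rfl hn hkey

/-- **`U₃(q) < U₆(q)`**, `q` odd. -/
theorem u3_six {Q : Type} [Group Q] [Finite Q] (hs : IsSimpleGroup Q) {A : Subgroup Q} {Γ : Subgroup (MulAut Q)}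
    (h : EPT A Γ) {F : Type} [Field F] [Fintype F] {q : ℕ} (hF : Fintype.card F = q ^ 2) (hodd : Odd q)
    (m : Model Q (Cfsg.GU 6 F q ⊓ Cfsg.Geo.specialLinear (Fin 6) F)) (hS : HasSoc A (Cfsg.PSU 3 F q))
    (hr : {M : Subgroup Q | ∃ x, x ∉ A ∧ M = A ⊓ cj x A}.ncard ≤ 2 * Nat.card (Cfsg.PSU 3 F q) ^ 2) : False := by
  have hqp : IsPrimePow q := by
    have h1 := FiniteField.isPrimePow_card F
    rw [hF] at h1
    exact (isPrimePow_pow_iff (by norm_num)).1 h1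
  obtain ⟨p, f, hp, hf, hq, hf2, hq3⟩ := exists_prime_pow hqp hodd
  have : Fact p.Prime := ⟨hp⟩
  have h1 := S0815.result p f hf hq hF 3 (by norm_num) (by omega)
  have h4 := S0280.result hF 3 (by norm_num)
  have h5 := Cfsg.Agent.H835.EP.card_six hF m
  simp only [Finset.prod_range_succ, Finset.prod_range_zero, one_mul, Nat.even_iff] at h4
  norm_num at h4
  have hLs : IsSimpleGroup (Cfsg.PSU 3 F q) := S0283.result hF 3 (by norm_num) (by omega)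
  have hA := HasSoc.card_le hS
  rw [h1] at hA
  have key := fun hp => card_le_of_r hs h hS hLs hp hr
  clear h1 hr hS
  generalize Nat.card (Cfsg.PSU 3 F q) = l at *
  generalize Nat.card Q = n at *
  generalize Nat.card A = a at *
  have hq0 : 0 < q + 1 := by omega
  have hq2 : 0 < q ^ 2 - 1 := Nat.sub_pos_of_lt (Nat.one_lt_pow (by norm_num) (by omega))
  have hl : Nat.gcd 3 (q + 1) * l = q ^ 3 * ((q ^ 2 - 1) * (q ^ 3 + 1)) := by
    apply Nat.eq_of_mul_eq_mul_left hq0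
    calc (q + 1) * (Nat.gcd 3 (q + 1) * l) = Nat.gcd 3 (q + 1) * ((q + 1) * l) := by ring
      _ = _ := by rw [h4]; ring
  have hn : Nat.gcd 6 (q + 1) * n = (q ^ 3 * ((q ^ 2 - 1) * (q ^ 3 + 1))) *
      (q ^ 12 * ((q ^ 4 - 1) * (q ^ 5 + 1) * (q ^ 6 - 1))) := by rw [h5]; ring
  have hA' : a ≤ 2 * f * (q ^ 3 * ((q ^ 2 - 1) * (q ^ 3 + 1))) := by
    rw [← hl]
    refine hA.trans (le_of_eq (by ring))
  have hP8 : q ^ 3 * ((q ^ 2 - 1) * (q ^ 3 + 1)) ≤ q ^ 8 := by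
    have h6 : (q ^ 2 - 1) * (q ^ 3 + 1) ≤ q ^ 5 := by
      obtain ⟨t, ht⟩ : ∃ t, q ^ 2 = t + 1 := ⟨q ^ 2 - 1, by omega⟩
      have h7 : q ^ 5 = (t + 1) * q ^ 3 := by rw [← ht]; ring
      rw [h7, ht, Nat.add_sub_cancel]
      have h8 : t + 1 ≤ q ^ 3 := by
        rw [← ht]
        exact Nat.pow_le_pow_right (by omega) (by norm_num)
      nlinarith
    calc q ^ 3 * ((q ^ 2 - 1) * (q ^ 3 + 1)) ≤ q ^ 3 * q ^ 5 := Nat.mul_le_mul_left _ h6
      _ = _ := by ring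
  have hX : 0 < (q ^ 2 - 1) * (q ^ 3 + 1) := Nat.mul_pos hq2 (by omega)
  have hK : q ^ 12 * ((q ^ 4 - 1) * (q ^ 5 - 1) * (q ^ 6 - 1)) ≤
      q ^ 12 * ((q ^ 4 - 1) * (q ^ 5 + 1) * (q ^ 6 - 1)) := by
    refine Nat.mul_le_mul_left _ (Nat.mul_le_mul_right _ (Nat.mul_le_mul_left _ ?_))
    omega
  have hkey := key (not_prime_of hq3 (Or.inr (Nat.gcd_dvd_right 3 (q + 1))) (Nat.gcd_le_left _ (by norm_num)) hX hl)
  exact num hq3 hf2 hA' hl (gcd_le _) (Nat.gcd_le_left _ (by norm_num)) hP8 (Nat.mul_pos (by positivity) hX)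
    (Nat.gcd_pos_of_pos_left _ (by norm_num)) hK hn hkey

end Cfsg.Agent.H396.EP
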