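import Cfsg.Agent.H396.EP.LocThree
import Cfsg.Agent.H396.EP.OwnSix
import Cfsg.Agent.H957.EP.InfNeBot
import Cfsg.Agent.H936.DSClass
import Cfsg.Agent.KFacts.RgdFiltClass

/-!
# S3499, own characteristic, socles `L₃(q)` and `U₃(q)` (helper396, task 6152)

* `r_psl3`, `r_psu3` : at most `2 |L| ^ 2` two-point stabilisers;
* `l3_six_own`, `u3_six_own` : `L₃(q) < L₆(q)` and `U₃(q) < U₆(q)` (`q` odd) do not occur.

`hg : TwoGen.{0}` is S3948 (`H59.EP.twoGen`).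
-/

set_option autoImplicit false

namespace Cfsg.Agent.H396.EP

open Subgroup Cfsg.Agent.H284 Cfsg.Agent.H419.EP
open scoped MatrixGroups

theorem not_prime_of' {q g l X : ℕ} (hq : 2 ≤ q) (hg : g ∣ q - 1 ∨ g ∣ q + 1) (hg3 : g ≤ 3) (hX : 0 < X)
    (h : g * l = q ^ 3 * X) : ¬ l.Prime := by
  intro hl
  have hco : Nat.Coprime q g := by
    rcases hg with hg | hg
    · refine Nat.Coprime.coprime_dvd_right hg ?_
      obtain ⟨t, rfl⟩ : ∃ t, q = t + 1 := ⟨q - 1, by omega⟩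
      simp
    · refine Nat.Coprime.coprime_dvd_right hg ?_
      simp
  have h1 : q ∣ l := by
    refine hco.dvd_of_dvd_mul_left ?_
    rw [h]
    exact (dvd_pow_self q (by norm_num)).mul_right _
  rcases (Nat.dvd_prime hl).1 h1 with h2 | h2
  · omega
  · rw [← h2] at h
    have h3 : q * (q ^ 2 * X) ≤ q * 3 := by
      calc q * (q ^ 2 * X) = g * q := by rw [h]; ring
        _ ≤ 3 * q := Nat.mul_le_mul_right _ hg3
        _ = _ := by ring
    have h4 := Nat.le_of_mul_le_mul_left h3 (by omega)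
    have h5 : 4 ≤ q ^ 2 := by nlinarith
    nlinarith

theorem not_prime_psl3 {F : Type*} [Field F] [Finite F] :
    ¬ (Nat.card (Matrix.ProjectiveSpecialLinearGroup (Fin 3) F)).Prime := by
  have := Fintype.ofFinite F
  have hq : 2 ≤ Fintype.card F := Fintype.one_lt_card
  have h4 := S0243.result (F := F) rfl 3 (by norm_num)
  rw [Fin.prod_univ_three] at h4
  simp only [Fin.val_zero, Fin.val_one, Fin.val_two] at h4
  generalize Nat.card (Matrix.ProjectiveSpecialLinearGroup (Fin 3) F) = l at *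
  generalize Fintype.card F = q at *
  have e0 : q ^ 3 - q ^ 0 = q ^ 3 - 1 := by rw [pow_zero]
  have e1 : q ^ 3 - q ^ 1 = q * (q ^ 2 - 1) := by rw [Nat.mul_sub]; ring_nf
  have e2 : q ^ 3 - q ^ 2 = q ^ 2 * (q - 1) := by rw [Nat.mul_sub]; ring_nf
  rw [e0, e1, e2] at h4
  have hq2 : 0 < q ^ 2 - 1 := Nat.sub_pos_of_lt (Nat.one_lt_pow (by norm_num) (by omega))
  have hq3' : 0 < q ^ 3 - 1 := Nat.sub_pos_of_lt (Nat.one_lt_pow (by norm_num) (by omega))
  refine not_prime_of' (X := (q ^ 2 - 1) * (q ^ 3 - 1)) hq (Or.inl (Nat.gcd_dvd_right 3 (q - 1)))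
    (Nat.gcd_le_left _ (by norm_num)) (Nat.mul_pos hq2 hq3') ?_
  apply Nat.eq_of_mul_eq_mul_left (show 0 < q - 1 by omega)
  calc (q - 1) * (Nat.gcd 3 (q - 1) * l) = Nat.gcd 3 (q - 1) * ((q - 1) * l) := by ring
    _ = _ := by rw [h4]; ring

theorem not_prime_psu3 {F : Type*} [Field F] [Fintype F] {q : ℕ} (hF : Fintype.card F = q ^ 2) :
    ¬ (Nat.card (Cfsg.PSU 3 F q)).Prime := by
  have hq : 2 ≤ q := by
    have h1 : 1 < Fintype.card F := Fintype.one_lt_card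
    rw [hF] at h1
    by_contra h2
    have h3 : q = 0 ∨ q = 1 := by omega
    rcases h3 with rfl | rfl <;> norm_num at h1
  have h4 := S0280.result hF 3 (by norm_num)
  simp only [Finset.prod_range_succ, Finset.prod_range_zero, one_mul, Nat.even_iff] at h4
  norm_num at h4
  have hq2 : 0 < q ^ 2 - 1 := Nat.sub_pos_of_lt (Nat.one_lt_pow (by norm_num) (by omega))
  refine not_prime_of' (X := (q ^ 2 - 1) * (q ^ 3 + 1)) hq (Or.inr (Nat.gcd_dvd_right 3 (q + 1)))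
    (Nat.gcd_le_left _ (by norm_num)) (Nat.mul_pos hq2 (by omega)) ?_
  apply Nat.eq_of_mul_eq_mul_left (show 0 < q + 1 by omega)
  calc (q + 1) * (Nat.gcd 3 (q + 1) * Nat.card (Cfsg.PSU 3 F q)) =
      Nat.gcd 3 (q + 1) * ((q + 1) * Nat.card (Cfsg.PSU 3 F q)) := by ring
    _ = _ := by rw [h4]; ring

/-- the number of two-point stabilisers, socle `L₃(q)` -/
theorem r_psl3 (hg : Cfsg.Agent.H59.EP.TwoGen.{0}) {Q : Type*} [Group Q] [Finite Q] {A : Subgroup Q} {Γ : Subgroup (MulAut Q)} (h : EPT A Γ) {F : Type*}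
    [Field F] [Finite F] (hS : HasSoc A (Matrix.ProjectiveSpecialLinearGroup (Fin 3) F)) :
    {M : Subgroup Q | ∃ x, x ∉ A ∧ M = A ⊓ cj x A}.ncard ≤
      2 * Nat.card (Matrix.ProjectiveSpecialLinearGroup (Fin 3) F) ^ 2 := by
  obtain ⟨p, hp⟩ := CharP.exists F
  have hprime : Fact p.Prime := ⟨CharP.char_is_prime F p⟩
  obtain ⟨m⟩ := Cfsg.Agent.H117.EP.model_PSL (F := F) (n := 3) (by norm_num)
  have hL : IsSimpleGroup (Matrix.ProjectiveSpecialLinearGroup (Fin 3) F) := S0249.result 3 le_rfl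
  exact (Cfsg.Agent.H957.EP.ncard_le_locK_hasSoc h hS hL (ncomm_of_not_prime hL not_prime_psl3)
    (Cfsg.Agent.H936.ds_psl (by norm_num))).trans (ncard_locK_three hg m (KFacts.RgdFiltClass.hasFilt_PSL 2))

/-- the number of two-point stabilisers, socle `U₃(q)` -/
theorem r_psu3 (hg : Cfsg.Agent.H59.EP.TwoGen.{0}) {Q : Type*} [Group Q] [Finite Q] {A : Subgroup Q} {Γ : Subgroup (MulAut Q)} (h : EPT A Γ) {F : Type*}
    [Field F] [Fintype F] {q : ℕ} (hF : Fintype.card F = q ^ 2) (hq : q ≠ 2) (hS : HasSoc A (Cfsg.PSU 3 F q)) :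
    {M : Subgroup Q | ∃ x, x ∉ A ∧ M = A ⊓ cj x A}.ncard ≤ 2 * Nat.card (Cfsg.PSU 3 F q) ^ 2 := by
  obtain ⟨p, hp⟩ := CharP.exists F
  have hprime : Fact p.Prime := ⟨CharP.char_is_prime F p⟩
  obtain ⟨m⟩ := Cfsg.Agent.H117.EP.model_PSU (n := 3) hF le_rfl
  have hL : IsSimpleGroup (Cfsg.PSU 3 F q) := S0283.result hF 3 le_rfl (fun h => hq h.2)
  exact (Cfsg.Agent.H957.EP.ncard_le_locK_hasSoc h hS hL (ncomm_of_not_prime hL (not_prime_psu3 hF))
    (Cfsg.Agent.H936.ds_psu hF le_rfl (fun h => hq h.2))).trans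
    (ncard_locK_three hg m (KFacts.RgdFiltClass.hasFilt_PSU hF le_rfl))

/-- **`L₃(q) < L₆(q)`**, `q` odd: `hown` of `H957.EP.row` -/
theorem l3_six_own (hg : Cfsg.Agent.H59.EP.TwoGen.{0}) {Q : Type} [Group Q] [Finite Q] (hs : IsSimpleGroup Q) {A : Subgroup Q} {Γ : Subgroup (MulAut Q)}
    (h : EPT A Γ) {F : Type} [Field F] [Fintype F] (m : Model Q (Cfsg.Geo.specialLinear (Fin 6) F))
    (hodd : Odd (Fintype.card F)) (hS : HasSoc A (Matrix.ProjectiveSpecialLinearGroup (Fin 3) F)) : False :=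
  l3_six hs h m hodd hS (r_psl3 hg h hS)

/-- **`U₃(q) < U₆(q)`**, `q` odd: `hown` of `H835.EP.row_of` -/
theorem u3_six_own (hg : Cfsg.Agent.H59.EP.TwoGen.{0}) {Q : Type} [Group Q] [Finite Q] (hs : IsSimpleGroup Q) {A : Subgroup Q} {Γ : Subgroup (MulAut Q)}
    (h : EPT A Γ) {F : Type} [Field F] [Fintype F] {q : ℕ} (hF : Fintype.card F = q ^ 2) (hodd : Odd q)
    (m : Model Q (Cfsg.GU 6 F q ⊓ Cfsg.Geo.specialLinear (Fin 6) F)) (hS : HasSoc A (Cfsg.PSU 3 F q)) : False :=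
  u3_six hs h hF hodd m hS (r_psu3 hg h hF (by rintro rfl; exact absurd hodd (by decide)) hS)

end Cfsg.Agent.H396.EP
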